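import Cfsg.Agent.Classical.ExtFieldSp.Transvection

/-! The coefficient group of a twisted line and the transvections in it. -/

set_option autoImplicit false
set_option linter.unusedSectionVars false

namespace Cfsg.Lib.Classical.ExtFieldSp

open Module

variable {F L V : Type*} [Field F] [Finite F] [Field L] [Algebra F L] [FiniteDimensional F L]
  [AddCommGroup V] [Module F V] [Module L V] [IsScalarTower F L V] [FiniteDimensional F V]
  {G : LinearMap.BilinForm L V} {f : LinearMap.BilinForm F V} {H : Subgroup (BilinIsom f)}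

/-- The maps `M` with `z ↦ z + M(G(z,x)) x` in the subgroup. -/
def Over.coeffs (hO : Over L G f H) (x : V) : AddSubgroup (L →ₗ[F] L) where
  carrier := {M | ∃ h ∈ H, ∀ z, (h : BilinIsom f).1 z = z + M (G z x) • x}
  zero_mem' := ⟨1, H.one_mem, fun z => by simp⟩
  add_mem' := by
    rintro M N ⟨h, hh, hM⟩ ⟨k, hk, hN⟩
    refine ⟨h * k, H.mul_mem hh hk, fun z => ?_⟩
    rw [BilinIsom.mul_apply', hN, hM, map_add G, LinearMap.add_apply, map_smul, LinearMap.smul_apply, hO.alt x,
      smul_zero, add_zero, LinearMap.add_apply, add_smul]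
    abel
  neg_mem' := by
    rintro M ⟨h, hh, hM⟩
    refine ⟨h⁻¹, H.inv_mem hh, fun z => ?_⟩
    have hG : G (z + (-M) (G z x) • x) x = G z x := by simp [hO.alt x]
    have e : h.1 (z + (-M) (G z x) • x) = z := by
      rw [hM, hG, LinearMap.neg_apply, neg_smul, neg_add_cancel_right]
    conv_lhs => rw [← e]
    exact BilinIsom.inv_apply_self _ _

/-- `t ↦ tr(d t) e`. -/
noncomputable def tmap (d e : L) : L →ₗ[F] L :=
  (Algebra.trace F L ∘ₗ LinearMap.mulLeft F d).smulRight e

theorem tmap_apply (d e t : L) : tmap (F := F) d e t = Algebra.trace F L (d * t) • e := rfl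

theorem Over.mulLeft_mem (hO : Over L G f H) (x : V) (a : L) : LinearMap.mulLeft F a ∈ hO.coeffs x :=
  ⟨hO.linT x a, hO.linT_mem x a, fun z => hO.linT_apply x a z⟩

/-- Conjugation by the scalar action on the line. -/
theorem Over.coeffs_conj (hO : Over L G f H) {x : V} (hx : x ≠ 0) {M : L →ₗ[F] L} (hM : M ∈ hO.coeffs x)
    (d : L) : d • (M ∘ₗ LinearMap.mulLeft F d) ∈ hO.coeffs x := by
  rcases eq_or_ne d 0 with rfl | hd
  · rw [zero_smul]; exact (hO.coeffs x).zero_mem
  have : FiniteDimensional L V := FiniteDimensional.right F L V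
  obtain ⟨P, hP⟩ := sympIsom_transitive hO.alt hO.nondeg hx (smul_ne_zero hd hx)
  obtain ⟨h, hh, hhz⟩ := hM
  refine ⟨lift hO.trace P * h * (lift hO.trace P)⁻¹,
    H.mul_mem (H.mul_mem (hO.lift_mem P) hh) (H.inv_mem (hO.lift_mem P)), fun z => ?_⟩
  set z' := (((lift hO.trace P)⁻¹ : BilinIsom f) : V ≃ₗ[F] V) z
  have hz : (P : V ≃ₗ[L] V) z' = z := BilinIsom.apply_inv_self (lift hO.trace P) z
  have hG : G z' x = d * G z x := by
    rw [← BilinIsom.map_form P, hz, hP, map_smul, smul_eq_mul]
  rw [BilinIsom.mul_apply', BilinIsom.mul_apply', hhz, lift_apply, map_add, hz, map_smul, hP, hG, smul_smul]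
  congr 2
  rw [LinearMap.smul_apply, smul_eq_mul, mul_comm]
  rfl

theorem trace_two_sq (hF : Nat.card F = 2) (y : L) : Algebra.trace F L (y ^ 2) = Algebra.trace F L y := by
  have := Fintype.ofFinite F
  have h := Algebra.trace_eq_of_algEquiv (FiniteField.frobeniusAlgEquivOfAlgebraic F L) y
  rw [FiniteField.coe_frobeniusAlgEquivOfAlgebraic] at h
  rw [← h, ← Nat.card_eq_fintype_card, hF]

/-- A transvection over the base field, outside degree two over two elements. -/
theorem Over.exists_transvection (hO : Over L G f H) (hcase : 3 ≤ Nat.card F ∨ finrank F L ≠ 2) :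
    ∃ x : V, x ≠ 0 ∧ ∃ c : F, c ≠ 0 ∧ sympT hO.falt x c ∈ H := by
  classical
  obtain ⟨g, u, ξ, ζ, R⟩ := hO.exists_rank1
  set x := (g : V ≃ₗ[F] V) u with hxdef
  have hx : x ≠ 0 := by
    intro h
    have hu : u = 0 := (g : V ≃ₗ[F] V).injective (by rw [← hxdef, h, map_zero])
    refine R.zeta_ne (eq_of_trace (F := F) fun c => ?_)
    have h' := R.phi_eq c
    simp only [phi_apply, hu, map_zero, smul_zero, LinearMap.zero_apply] at h'
    rw [eq_comm, smul_eq_zero, or_iff_left R.xi_ne] at h'
    rw [mul_zero, map_zero, mul_comm, h']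
  refine ⟨x, hx, ?_⟩
  have hfin : ∀ c : F, c ≠ 0 → tmap 1 (algebraMap F L c) ∈ hO.coeffs x → ∃ c : F, c ≠ 0 ∧ sympT hO.falt x c ∈ H := by
    rintro c hc ⟨h, hh, hz⟩
    refine ⟨c, hc, ?_⟩
    suffices h = sympT hO.falt x c from this ▸ hh
    refine BilinIsom.ext' fun z => ?_
    rw [hz, sympT_apply, tmap_apply, one_mul, ← hO.trace, smul_assoc, algebraMap_smul, smul_smul, mul_comm]
  have htw : ∀ (l : F), l ≠ 0 → ∀ w : L, tmap 1 w + tmap w 1 +
      tmap 1 (algebraMap F L (l * Algebra.trace F L (ζ * w))) ∈ hO.coeffs x := by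
    intro l hl w
    obtain ⟨h, hh, hz⟩ := R.twist hl w
    refine ⟨h, hh, fun z => ?_⟩
    rw [hz, hO.trace, ← hxdef]
    simp only [LinearMap.add_apply, tmap_apply, one_mul, Algebra.algebraMap_eq_smul_one, smul_smul, mul_comm]
  by_cases h2 : (2 : F) = 0
  swap
  · have h := htw 1 one_ne_zero 1
    rw [mul_one, R.trace_zeta, mul_zero, map_zero] at h
    refine hfin 2 h2 ?_
    convert h using 1
    ext t
    simp [tmap_apply, Algebra.algebraMap_eq_smul_one]
    module
  obtain ⟨w₁, hw₁⟩ : ∃ w, Algebra.trace F L (ζ * w) = 1 := by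
    obtain ⟨v, hv⟩ := Algebra.trace_surjective F L (1 : F)
    exact ⟨ζ⁻¹ * v, by rw [mul_inv_cancel_left₀ R.zeta_ne, hv]⟩
  by_cases hq : ∃ l : F, l ≠ 0 ∧ l ≠ 1
  · obtain ⟨l, hl, hl1⟩ := hq
    refine hfin (l - 1) (sub_ne_zero.mpr hl1) ?_
    convert (hO.coeffs x).sub_mem (htw l hl w₁) (htw 1 one_ne_zero w₁) using 1
    ext t
    simp [tmap_apply, hw₁, Algebra.algebraMap_eq_smul_one]
    module
  push Not at hq
  have hF : Nat.card F = 2 := by
    rw [Nat.card_eq_two_iff]
    exact ⟨0, 1, zero_ne_one, Set.eq_univ_of_forall fun l => by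
      rcases eq_or_ne l 0 with h | h
      · exact Or.inl h
      · exact Or.inr (hq l h)⟩
  have hr : finrank F L ≠ 2 := hcase.resolve_left (by omega)
  have h2L : (2 : L) = 0 := by
    rw [← map_ofNat (algebraMap F L) 2, h2, map_zero]
  have hval : ∀ s : F, s = 0 ∨ s = 1 := fun s => (eq_or_ne s 0).imp id fun h => hq s h
  set Rx := hO.coeffs x
  let V0 : Set L := {v | tmap (F := F) 1 v + tmap v 1 ∈ Rx}
  have hker : ∀ v, Algebra.trace F L (ζ * v) = 0 → v ∈ V0 := fun v hv => by
    have h := htw 1 one_ne_zero v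
    rw [hv, mul_zero, map_zero] at h
    show tmap (F := F) 1 v + tmap v 1 ∈ Rx
    convert h using 1
    ext t
    simp [tmap_apply]
  have hsq : ∀ v ∈ V0, v ^ 2 ∈ V0 := by
    intro v hv
    have hd : ∀ d, tmap d (d * v) + tmap (d * v) d ∈ Rx := fun d => by
      convert hO.coeffs_conj hx hv d using 1
      ext t
      simp only [LinearMap.add_apply, tmap_apply, LinearMap.smul_apply, LinearMap.coe_comp, Function.comp_apply,
        LinearMap.mulLeft_apply, smul_eq_mul, mul_add, one_mul, Algebra.mul_smul_comm, mul_one, mul_assoc,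
        mul_left_comm v d t]
    show tmap (F := F) 1 (v ^ 2) + tmap (v ^ 2) 1 ∈ Rx
    convert Rx.sub_mem (Rx.sub_mem (hd (v + 1)) (hd v)) (hd 1) using 1
    ext t
    have hvv : ∀ s : F, s • v + s • v = 0 := fun s => by rw [← add_smul, ← two_mul, h2, zero_mul, zero_smul]
    simp only [LinearMap.add_apply, LinearMap.sub_apply, tmap_apply, add_mul, one_mul, map_add, add_smul, smul_add,
      pow_two]
    linear_combination (norm := module) -(hvv (Algebra.trace F L (v * t)))
  by_cases hbad : ∃ v ∈ V0, Algebra.trace F L (ζ * v) = 1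
  · obtain ⟨v, hv, hv1⟩ := hbad
    refine hfin 1 one_ne_zero ?_
    convert Rx.sub_mem (htw 1 one_ne_zero v) hv using 1
    ext t
    simp [tmap_apply, hv1]
  push Not at hbad
  exfalso
  have hz2 : ∀ v, Algebra.trace F L (ζ * v) = 0 → Algebra.trace F L (ζ * v ^ 2) = 0 := fun v hv =>
    (hval _).resolve_right (hbad _ (hsq v (hker v hv)))
  have hpar : ∀ v v' : L, (v + v') ^ 2 = v ^ 2 + v' ^ 2 := fun v v' => by linear_combination (v * v') * h2L
  have hzz : ∀ v, Algebra.trace F L (ζ * v ^ 2) = Algebra.trace F L (ζ * v) := by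
    have hsurj : Function.Surjective fun v : L => v ^ 2 := by
      have : Finite L := Module.finite_of_finite F
      refine Finite.injective_iff_surjective.mp fun a b hab => ?_
      have h : (a + b) ^ 2 = 0 := by rw [hpar]; linear_combination hab + (b ^ 2) * h2L
      have h0 : a + b = 0 := (pow_eq_zero_iff two_ne_zero).mp h
      linear_combination h0 - b * h2L
    obtain ⟨y, hy⟩ := hsurj w₁
    simp only at hy
    have hy1 : Algebra.trace F L (ζ * y) = 1 := by
      refine (hval _).resolve_left fun h => ?_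
      have := hz2 y h
      rw [hy, hw₁] at this
      exact one_ne_zero this
    intro v
    rcases hval (Algebra.trace F L (ζ * v)) with h | h
    · rw [h, hz2 v h]
    · have hvy : Algebra.trace F L (ζ * (v + y)) = 0 := by
        rw [mul_add, map_add, h, hy1, ← two_mul, h2, zero_mul]
      have := hz2 _ hvy
      rw [hpar, mul_add, map_add, hy, hw₁] at this
      rw [h]
      linear_combination this - h2
  have hzeta : ζ = 1 := by
    have hsame : ∀ v, Algebra.trace F L (ζ ^ 2 * v ^ 2) = Algebra.trace F L (ζ * v ^ 2) := fun v => by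
      rw [← mul_pow, trace_two_sq hF, hzz]
    have hsurj : ∀ c : L, ∃ v, v ^ 2 = c := fun c => by
      have : Finite L := Module.finite_of_finite F
      have hchar : ringChar L = 2 := CharP.ringChar_of_prime_eq_zero Nat.prime_two (by exact_mod_cast h2L)
      obtain ⟨v, hv⟩ := FiniteField.isSquare_of_char_two hchar c
      exact ⟨v, by rw [hv, sq]⟩
    have h : ζ ^ 2 = ζ := eq_of_trace (F := F) fun c => by
      obtain ⟨v, rfl⟩ := hsurj c
      rw [mul_comm, hsame, mul_comm]
    rw [pow_two] at h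
    exact (mul_eq_left₀ R.zeta_ne).mp h
  have hodd : Odd (finrank F L) := hO.prime.odd_of_ne_two hr
  have h := R.trace_zeta
  rw [hzeta, ← map_one (algebraMap F L), Algebra.trace_algebraMap] at h
  obtain ⟨k, hk⟩ := hodd
  rw [hk, add_smul, one_smul, mul_smul, two_nsmul, ← two_mul, h2, zero_mul, zero_add] at h
  exact one_ne_zero h

end Cfsg.Lib.Classical.ExtFieldSp
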