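import Cfsg.Agent.Classical.ExtFieldSp.Main
import Cfsg.Agent.Classical.ExtField.Extras

/-! Building the form over an extension field of self-adjoint scalars. -/

set_option autoImplicit false
set_option linter.unusedSectionVars false

namespace Cfsg.Lib.Classical.ExtFieldSp

open Module

variable {F L V : Type*} [Field F] [Finite F] [Field L] [Algebra F L] [FiniteDimensional F L]
  [AddCommGroup V] [Module F V] [Module L V] [IsScalarTower F L V] [FiniteDimensional F V]

/-- Self-adjoint scalars: a form is the trace of a form over the extension. -/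
theorem exists_trace_form {f : LinearMap.BilinForm F V} (hfn : f.Nondegenerate)
    (hsa : ∀ (c : L) (u v : V), f (c • u) v = f u (c • v)) (halt : ∀ (c : L) (v : V), f (c • v) v = 0) :
    ∃ G : LinearMap.BilinForm L V, G.IsAlt ∧ G.Nondegenerate ∧ ∀ u v, f u v = Algebra.trace F L (G u v) := by
  let D := (Algebra.traceForm F L).toDual (traceForm_nondegenerate F L)
  let Φ : V → V → L := fun u v =>
    D.symm ((f.flip v).comp ((LinearMap.toSpanSingleton L V u).restrictScalars F))
  have hΦ : ∀ u v (c : L), Algebra.trace F L (c * Φ u v) = f (c • u) v := fun u v c => by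
    rw [mul_comm, ← Algebra.traceForm_apply, LinearMap.BilinForm.apply_toDual_symm_apply]
    rfl
  let G : LinearMap.BilinForm L V := LinearMap.mk₂ L Φ
    (fun u₁ u₂ v => eq_of_trace (F := F) fun c => by
      rw [mul_add, map_add, hΦ, hΦ, hΦ, smul_add, map_add, LinearMap.add_apply])
    (fun s u v => eq_of_trace (F := F) fun c => by
      rw [hΦ, smul_eq_mul, ← mul_assoc, hΦ, ← smul_smul])
    (fun u v₁ v₂ => eq_of_trace (F := F) fun c => by
      rw [mul_add, map_add, hΦ, hΦ, hΦ, map_add])
    (fun s u v => eq_of_trace (F := F) fun c => by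
      rw [hΦ, smul_eq_mul, ← mul_assoc, hΦ, ← hsa, smul_smul, mul_comm s c])
  have htr : ∀ u v, f u v = Algebra.trace F L (G u v) := fun u v => by
    have h := hΦ u v 1
    rw [one_mul, one_smul] at h
    exact h.symm
  refine ⟨G, fun u => eq_of_trace (F := F) fun c => ?_,
    ⟨fun u hu => hfn.1 u fun v => by rw [htr, hu, map_zero],
      fun v hv => hfn.2 v fun u => by rw [htr, hv, map_zero]⟩, htr⟩
  rw [mul_zero, map_zero]
  exact (hΦ u u c).trans (halt c u)

/-- Some transvection is not semilinear. -/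
theorem exists_isom_not_semi {G : LinearMap.BilinForm L V} {f : LinearMap.BilinForm F V} (hr : 2 ≤ finrank F L)
    (hG : G.IsAlt) (hGn : G.Nondegenerate) (hf : f.IsAlt) (h : ∀ u v, f u v = Algebra.trace F L (G u v))
    (hV : 0 < finrank F V) : ∃ g : BilinIsom f, ¬ Semi L (g : V ≃ₗ[F] V) := by
  obtain ⟨v, hv⟩ : ∃ v : V, v ≠ 0 := by
    have : Nontrivial V := Module.nontrivial_of_finrank_pos hV
    exact exists_ne 0
  obtain ⟨a, ha⟩ : ∃ a : L, a ∉ F ∙ (1 : L) := by
    by_contra! hh
    have h1 : finrank F L ≤ 1 := by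
      calc finrank F L = finrank F (F ∙ (1 : L)) := by
            rw [Submodule.eq_top_iff'.mpr hh, finrank_top]
        _ = 1 := finrank_span_singleton one_ne_zero
        _ ≤ 1 := le_rfl
    omega
  obtain ⟨θ, hθ, hθ1⟩ := ExtField.exists_dual_eq_one (K := F) (p := F ∙ (1 : L)) (v := a) ha
  obtain ⟨t, ht⟩ := exists_trace_dual θ
  have hθ0 : θ 1 = 0 := hθ1 1 (Submodule.mem_span_singleton_self _)
  have ht1 : Algebra.trace F L t = 0 := by rw [← hθ0, ht, mul_one]
  have hta : Algebra.trace F L (a * t) = 1 := by rw [← hθ, ht, mul_comm]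
  obtain ⟨w, hw⟩ : ∃ w, G w v ≠ 0 := by
    by_contra! hh
    exact hv (hGn.2 v hh)
  set z : V := (t / G w v) • w with hzdef
  have hz : G z v = t := by
    rw [hzdef, LinearMap.map_smul, LinearMap.smul_apply, smul_eq_mul, div_mul_cancel₀ _ hw]
  refine ⟨sympT hf v 1, fun hS => ?_⟩
  obtain ⟨b, hb⟩ := hS a
  have e := hb z
  rw [sympT_apply, sympT_apply, h z, hz, ht1, mul_zero, zero_smul, add_zero, h (a • z), LinearMap.map_smul,
    LinearMap.smul_apply, smul_eq_mul, hz, hta, one_mul, one_smul] at e
  have hvz : v = (b - a) • z := by rw [sub_smul, ← e, add_sub_cancel_left]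
  have : t = 0 := by
    rw [← hz, hvz, LinearMap.map_smul, hG z, smul_zero]
  rw [this, mul_zero, map_zero] at hta
  exact zero_ne_one hta

end Cfsg.Lib.Classical.ExtFieldSp
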