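import Cfsg.Agent.Classical.ExtFieldSp.Exists
import Cfsg.Agent.Classical.Symp.Simple

/-! An overgroup with a non-semilinear element is the whole isometry group. -/

set_option autoImplicit false
set_option linter.unusedSectionVars false

namespace Cfsg.Lib.Classical.ExtFieldSp

open Module
open scoped commutatorElement

variable {F L V : Type*} [Field F] [Finite F] [Field L] [Algebra F L] [FiniteDimensional F L]
  [AddCommGroup V] [Module F V] [Module L V] [IsScalarTower F L V] [FiniteDimensional F V]
  {G : LinearMap.BilinForm L V} {f : LinearMap.BilinForm F V} {H : Subgroup (BilinIsom f)}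

/-- One transvection gives all isometries. -/
theorem Over.eq_top_of_transvection (hO : Over L G f H) {x : V} (hx : x ≠ 0) {c : F} (hc : c ≠ 0)
    (h : sympT hO.falt x c ∈ H) : H = ⊤ := by
  classical
  have : FiniteDimensional L V := FiniteDimensional.right F L V
  have hv : ∀ v : V, v ≠ 0 → sympT hO.falt v c ∈ H := by
    intro v hv
    obtain ⟨P, hP⟩ := sympIsom_transitive hO.alt hO.nondeg hx hv
    have h' := H.mul_mem (H.mul_mem (hO.lift_mem P) h) (H.inv_mem (hO.lift_mem P))
    rwa [sympT_conj, lift_apply, hP] at h'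
  let S : AddSubgroup F :=
    { carrier := {a | ∀ v : V, sympT hO.falt v a ∈ H}
      zero_mem' := fun v => by rw [sympT_zero]; exact H.one_mem
      add_mem' := fun {a b} ha hb v => by rw [sympT_add]; exact H.mul_mem (ha v) (hb v)
      neg_mem' := fun {a} ha v => by rw [sympT_neg]; exact H.inv_mem (ha v) }
  have hsq : ∀ s : F, s ^ 2 * c ∈ S := fun s v => by
    rw [← sympT_smul]
    rcases eq_or_ne (s • v) 0 with h0 | h0
    · rw [h0, sympT_zero_vec]; exact H.one_mem
    · exact hv _ h0
  have hall : ∀ a : F, a ∈ S := by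
    intro a
    by_cases h2 : ringChar F = 2
    · obtain ⟨s, hs⟩ := FiniteField.isSquare_of_char_two h2 (a / c)
      have := hsq s
      rwa [pow_two, ← hs, div_mul_cancel₀ _ hc] at this
    · have h2' : (2 : F) ≠ 0 := Ring.two_ne_zero h2
      have e : a = ((a / (4 * c) + 1) ^ 2 * c) - ((a / (4 * c) - 1) ^ 2 * c) := by
        have h4 : (4 : F) ≠ 0 := by
          rw [show (4 : F) = 2 * 2 by norm_num]
          exact mul_ne_zero h2' h2'
        field_simp
        ring
      rw [e]
      exact S.sub_mem (hsq _) (hsq _)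
  rw [eq_top_iff, ← transGroup_eq_top hO.falt hO.fnondeg, transGroup, transGroupOn, Subgroup.closure_le]
  rintro _ ⟨v, -, a, rfl⟩
  exact hall a v

/-- Degree two over two elements: products of two transvections. -/
theorem Over.eq_top_tiny (hO : Over L G f H) (hF : Nat.card F = 2) (hr : finrank F L = 2) : H = ⊤ := by
  classical
  have : FiniteDimensional L V := FiniteDimensional.right F L V
  have hL : Finite L := Module.finite_of_finite F
  have hval : ∀ s : F, s = 0 ∨ s = 1 := fun s => by
    obtain ⟨a, b, -, huniv⟩ := Nat.card_eq_two_iff.mp hF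
    have hs : s ∈ ({a, b} : Set F) := huniv ▸ Set.mem_univ s
    have h0 : (0 : F) ∈ ({a, b} : Set F) := huniv ▸ Set.mem_univ _
    have h1 : (1 : F) ∈ ({a, b} : Set F) := huniv ▸ Set.mem_univ _
    rcases hs with rfl | rfl <;> rcases h0 with h0 | h0 <;> rcases h1 with h1 | h1 <;>
      first | exact Or.inl h0.symm | exact Or.inr h1.symm | exact absurd (h0.trans h1.symm) zero_ne_one
  have h11 : (1 : F) + 1 = 0 := (hval _).resolve_right fun h => one_ne_zero (add_eq_left.mp h)
  have htr2 : Algebra.trace F L (1 : L) = 0 := by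
    rw [← map_one (algebraMap F L), Algebra.trace_algebraMap, hr, two_nsmul, h11]
  obtain ⟨w, hw⟩ := Algebra.trace_surjective F L (1 : F)
  have hker : ∀ e : L, Algebra.trace F L e = 0 → ∃ l : F, e = algebraMap F L l := by
    intro e he
    have hle : (F ∙ (1 : L)) ≤ LinearMap.ker (Algebra.trace F L) :=
      (Submodule.span_singleton_le_iff_mem _ _).mpr htr2
    have hfin : finrank F (LinearMap.ker (Algebra.trace F L)) ≤ 1 := by
      have h := (Algebra.trace F L).finrank_range_add_finrank_ker
      rw [LinearMap.range_eq_top.mpr (Algebra.trace_surjective F L), finrank_top, finrank_self] at h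
      omega
    have heq := Submodule.eq_of_le_of_finrank_le hle (by rw [finrank_span_singleton one_ne_zero]; exact hfin)
    obtain ⟨l, hl⟩ := Submodule.mem_span_singleton.mp (heq.ge (show e ∈ LinearMap.ker (Algebra.trace F L) from he))
    exact ⟨l, by rw [← hl, Algebra.algebraMap_eq_smul_one]⟩
  have hcoord : ∀ e : L, ∃ l : F, e = algebraMap F L l + Algebra.trace F L e • w := fun e => by
    obtain ⟨l, hl⟩ := hker (e - Algebra.trace F L e • w) (by rw [map_sub, map_smul, hw, smul_eq_mul, mul_one, sub_self])
    exact ⟨l, by rw [← hl, sub_add_cancel]⟩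
  have hw0 : w ≠ 0 := fun h => by rw [h, map_zero] at hw; exact zero_ne_one hw
  have hw1 : w + 1 ≠ 0 := fun h => by
    have := congrArg (Algebra.trace F L) h
    rw [map_add, hw, htr2, add_zero, map_zero] at this
    exact one_ne_zero this
  have hsq : w * w = w + 1 := by
    obtain ⟨l, hl⟩ := hcoord (w * w)
    have : Fintype F := Fintype.ofFinite F
    rw [← pow_two, trace_two_sq hF, hw, one_smul, pow_two] at hl
    rcases hval l with rfl | rfl
    · rw [map_zero, zero_add] at hl
      exfalso
      have h1 : w = 1 := (mul_eq_left₀ hw0).mp hl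
      rw [h1, htr2] at hw
      exact zero_ne_one hw
    · rw [hl, map_one, add_comm]
  have twoV : ∀ v : V, v + v = 0 := fun v => by rw [← one_smul F v, ← add_smul, h11, zero_smul]
  have htw : ∀ e : L, Algebra.trace F L e = 0 → e ≠ 0 → e = 1 := fun e he he0 => by
    obtain ⟨l, hl⟩ := hker e he
    rcases hval l with rfl | rfl
    · exact absurd (by rw [hl, map_zero]) he0
    · rw [hl, map_one]
  -- a product of two transvections
  obtain ⟨g, hg, u, hne⟩ := hO.exists_phi_ne
  have hlin : hO.linT u 1 = sympT hO.falt (w • u) 1 * sympT hO.falt ((w + 1) • u) 1 := by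
    refine BilinIsom.ext' fun z => ?_
    have hperp : f ((w + 1) • u) (w • u) = 0 := by
      rw [hO.trace]; simp [hO.alt u]
    have hfz : ∀ s : F, f (z + s • ((w + 1) • u)) (w • u) = f z (w • u) := fun s => by
      rw [map_add f, LinearMap.add_apply, map_smul f, LinearMap.smul_apply, hperp, smul_zero, add_zero]
    rw [BilinIsom.mul_apply', hO.linT_apply, sympT_apply hO.falt ((w + 1) • u) 1 z, sympT_apply, hfz, one_mul,
      one_mul, one_mul, hO.trace, hO.trace, map_smul (G z), map_smul (G z), smul_eq_mul, smul_eq_mul]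
    obtain ⟨l, hl⟩ := hcoord (G z u)
    have e1 : Algebra.trace F L (w * G z u) = l + Algebra.trace F L (G z u) := by
      conv_lhs => rw [hl, mul_add, map_add, mul_comm w (algebraMap F L l), ← Algebra.smul_def, map_smul, hw,
        smul_eq_mul, mul_one, Algebra.mul_smul_comm, hsq, map_smul, map_add, hw, htr2, add_zero, smul_eq_mul,
        mul_one]
    have e2 : Algebra.trace F L ((w + 1) * G z u) = l := by
      rw [add_mul, one_mul, map_add, e1, add_assoc, ← two_mul, show (2 : F) = 1 + 1 by norm_num, h11, zero_mul,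
        add_zero]
    rw [e1, e2]
    conv_lhs => rw [hl, add_smul, algebraMap_smul, smul_assoc]
    have := twoV (l • w • u)
    rw [add_smul w 1 u, one_smul, add_smul, smul_add]
    linear_combination (norm := module) -this
  set p := (g : V ≃ₗ[F] V) (w • u) with hp
  set p' := (g : V ≃ₗ[F] V) ((w + 1) • u) with hp'
  have hpair : sympT hO.falt p 1 * sympT hO.falt p' 1 ∈ H := by
    have h := H.mul_mem (H.mul_mem hg (hO.linT_mem u 1)) (H.inv_mem hg)
    rw [hlin, show g * (sympT hO.falt (w • u) 1 * sympT hO.falt ((w + 1) • u) 1) * g⁻¹ =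
      g * sympT hO.falt (w • u) 1 * g⁻¹ * (g * sympT hO.falt ((w + 1) • u) 1 * g⁻¹) by group, sympT_conj,
      sympT_conj] at h
    exact h
  have hpp : G p p' = 1 := by
    have hEG : G p p' = Emap G g u w := by
      rw [hp', add_smul, one_smul, map_add, map_add (G p), hO.alt p, zero_add]
      rfl
    have htrE : Algebra.trace F L (Emap G g u w) = 0 := by
      have := hO.trace_E g u w 1
      rwa [one_mul, hO.phi_one, mul_zero, map_zero, neg_zero] at this
    refine hEG ▸ htw _ htrE fun hE => hne ?_
    refine LinearMap.ext fun c => eq_of_trace (F := F) fun a => ?_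
    rw [LinearMap.zero_apply, mul_zero, map_zero, ← neg_eq_zero, ← hO.trace_E]
    obtain ⟨l, hl⟩ := hcoord a
    rw [hl, map_add, Algebra.algebraMap_eq_smul_one, map_smul, map_smul, hE, smul_zero, add_zero]
    have h1 : Emap G g u (1 : L) = 0 := by rw [Emap_apply, one_smul, hO.alt]
    rw [h1, smul_zero, mul_zero, map_zero]
  have hneg : ∀ e : L, -e = e := fun e => by
    have : (1 : L) + 1 = 0 := by simpa using congrArg (algebraMap F L) h11
    linear_combination -e * this
  have horb : ∀ v v' : V, G v v' = 1 → sympT hO.falt v 1 * sympT hO.falt v' 1 ∈ H := by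
    intro v v' hv
    obtain ⟨P, hP1, hP2⟩ := sympIsom_pair_transitive hO.alt hO.nondeg hpp hv
    have h := H.mul_mem (H.mul_mem (hO.lift_mem P) hpair) (H.inv_mem (hO.lift_mem P))
    rwa [show lift hO.trace P * (sympT hO.falt p 1 * sympT hO.falt p' 1) * (lift hO.trace P)⁻¹ =
      lift hO.trace P * sympT hO.falt p 1 * (lift hO.trace P)⁻¹ *
        (lift hO.trace P * sympT hO.falt p' 1 * (lift hO.trace P)⁻¹) by group, sympT_conj, sympT_conj, lift_apply,
      lift_apply, hP1, hP2] at h
  have hTT : ∀ v : V, sympT hO.falt v 1 * sympT hO.falt v 1 = 1 := fun v => by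
    rw [← sympT_add, h11, sympT_zero]
  have hindep : ∀ a b : V, a ≠ 0 → b ∉ L ∙ a → sympT hO.falt a 1 * sympT hO.falt b 1 ∈ H := by
    intro a b ha hb
    obtain ⟨v, hv1, hv2⟩ : ∃ v, G a v = 1 ∧ G v b = 1 := by
      obtain ⟨d, hd, hdb⟩ := exists_nonorth_of_notMem hO.alt hO.nondeg (L ∙ a) hb
      obtain ⟨e, he⟩ := exists_hyperbolic_partner hO.nondeg ha
      have hd0 : G a d = 0 := hd a (Submodule.mem_span_singleton_self a)
      refine ⟨e + ((G b d)⁻¹ * (1 - G b e)) • d, ?_, ?_⟩
      · rw [map_add, map_smul, he, hd0, smul_zero, add_zero]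
      · rw [hO.swap b, hneg, map_add, map_smul, smul_eq_mul, mul_comm, ← mul_assoc, mul_inv_cancel₀ hdb, one_mul,
          add_sub_cancel]
    have h := H.mul_mem (horb a v hv1) (horb v b hv2)
    rwa [mul_assoc, ← mul_assoc (sympT hO.falt v 1), hTT, one_mul] at h
  have hall : ∀ a b : V, a ≠ 0 → b ≠ 0 → sympT hO.falt a 1 * sympT hO.falt b 1 ∈ H := by
    intro a b ha hb
    by_cases hab : b ∈ L ∙ a
    · obtain ⟨e, he⟩ := exists_hyperbolic_partner hO.nondeg ha
      have hc : e ∉ L ∙ a := fun h => by
        obtain ⟨s, rfl⟩ := Submodule.mem_span_singleton.mp h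
        rw [map_smul, hO.alt a, smul_zero] at he
        exact zero_ne_one he
      have hcb : b ∉ L ∙ e := fun h => by
        obtain ⟨s, rfl⟩ := Submodule.mem_span_singleton.mp h
        obtain ⟨t, ht⟩ := Submodule.mem_span_singleton.mp hab
        have := congrArg (G a) ht
        rw [map_smul, map_smul, hO.alt a, he, smul_zero, smul_eq_mul, mul_one] at this
        exact hb (by rw [← this, zero_smul])
      have he0 : e ≠ 0 := fun h => hc (h ▸ Submodule.zero_mem _)
      have h := H.mul_mem (hindep a e ha hc) (hindep e b he0 hcb)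
      rwa [mul_assoc, ← mul_assoc (sympT hO.falt e 1), hTT, one_mul] at h
    · exact hindep a b ha hab
  obtain ⟨v₀, hv₀⟩ : ∃ v : V, v ≠ 0 := by
    have : Nontrivial V := Module.nontrivial_of_finrank_pos (R := F) (by have := hO.six_le; omega)
    exact exists_ne 0
  have hgen : ∀ (v : V) (c : F), sympT hO.falt v c ∈ H ∨
      sympT hO.falt v₀ 1 * sympT hO.falt v c ∈ H := by
    intro v c
    rcases hval c with rfl | rfl
    · left; rw [sympT_zero]; exact H.one_mem
    · rcases eq_or_ne v 0 with rfl | hv
      · left; rw [sympT_zero_vec]; exact H.one_mem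
      · exact Or.inr (hall v₀ v hv₀ hv)
  let K : Subgroup (BilinIsom f) := Subgroup.normalClosure {x | ∃ a b : V, a ≠ 0 ∧ b ≠ 0 ∧
    x = sympT hO.falt a 1 * sympT hO.falt b 1}
  have hK : K ≤ H := by
    show Subgroup.closure (Group.conjugatesOfSet _) ≤ H
    rw [Subgroup.closure_le]
    intro y hy
    obtain ⟨x, ⟨a, b, ha, hb, rfl⟩, hc⟩ := Group.mem_conjugatesOfSet_iff.mp hy
    obtain ⟨k, rfl⟩ := isConj_iff.mp hc
    rw [show k * (sympT hO.falt a 1 * sympT hO.falt b 1) * k⁻¹ =
      k * sympT hO.falt a 1 * k⁻¹ * (k * sympT hO.falt b 1 * k⁻¹) by group, sympT_conj, sympT_conj]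
    exact hall _ _ (by simpa using ha) (by simpa using hb)
  have hcomm : commutator (BilinIsom f) ≤ K := by
    let π : BilinIsom f →* BilinIsom f ⧸ K := QuotientGroup.mk' K
    have himg : ∀ x, π x = 1 ∨ π x = π (sympT hO.falt v₀ 1) := by
      have hsquare : π (sympT hO.falt v₀ 1) * π (sympT hO.falt v₀ 1) = 1 := by rw [← map_mul, hTT, map_one]
      have hinv : (π (sympT hO.falt v₀ 1))⁻¹ = π (sympT hO.falt v₀ 1) := inv_eq_of_mul_eq_one_right hsquare
      intro x
      have hx : x ∈ transGroup hO.falt := by rw [transGroup_eq_top hO.falt hO.fnondeg]; exact Subgroup.mem_top x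
      rw [transGroup, transGroupOn] at hx
      induction hx using Subgroup.closure_induction with
      | mem y hy =>
        obtain ⟨v, -, c, rfl⟩ := hy
        rcases hval c with rfl | rfl
        · left; rw [sympT_zero, map_one]
        rcases eq_or_ne v 0 with rfl | hv
        · left; rw [sympT_zero_vec, map_one]
        right
        have : π (sympT hO.falt v₀ 1 * sympT hO.falt v 1) = 1 :=
          (QuotientGroup.eq_one_iff _).mpr (Subgroup.subset_normalClosure ⟨v₀, v, hv₀, hv, rfl⟩)
        rw [map_mul, mul_eq_one_iff_inv_eq, hinv] at this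
        exact this.symm
      | one => left; exact map_one π
      | mul y z _ _ hy hz =>
        rcases hy with hy | hy <;> rcases hz with hz | hz <;> simp [map_mul, hy, hz, hsquare]
      | inv y _ hy => rcases hy with hy | hy <;> simp [map_inv, hy, hinv]
    rw [commutator_def, Subgroup.commutator_le]
    intro a _ b _
    refine (QuotientGroup.eq_one_iff _).mp ?_
    show π ⁅a, b⁆ = 1
    rw [map_commutatorElement, commutatorElement_eq_one_iff_mul_comm]
    rcases himg a with h | h <;> rcases himg b with h' | h' <;> simp [h, h']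
  rw [eq_top_iff, ← commutator_bilinIsom_eq_top hO.falt hO.fnondeg (Or.inl hO.six_le)]
  exact hcomm.trans hK

theorem Over.eq_top (hO : Over L G f H) : H = ⊤ := by
  by_cases hcase : 3 ≤ Nat.card F ∨ finrank F L ≠ 2
  · obtain ⟨x, hx, c, hc, h⟩ := hO.exists_transvection hcase
    exact hO.eq_top_of_transvection hx hc h
  · push Not at hcase
    have : 2 ≤ Nat.card F := Finite.one_lt_card
    exact hO.eq_top_tiny (by omega) hcase.2

end Cfsg.Lib.Classical.ExtFieldSp
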