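import Cfsg.Agent.Classical.ExtFieldSp.Setting

/-! Some element twists a line with a coefficient map of rank one. -/

set_option autoImplicit false
set_option linter.unusedSectionVars false

namespace Cfsg.Lib.Classical.ExtFieldSp

open Module

variable {F L V : Type*} [Field F] [Finite F] [Field L] [Algebra F L] [FiniteDimensional F L]
  [AddCommGroup V] [Module F V] [Module L V] [IsScalarTower F L V] [FiniteDimensional F V]
  {G : LinearMap.BilinForm L V} {f : LinearMap.BilinForm F V} {H : Subgroup (BilinIsom f)}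

theorem scalar_of_eigen (T : V →ₗ[L] V) (h : ∀ u : V, ∃ c : L, T u = c • u) : ∃ c : L, ∀ u, T u = c • u := by
  classical
  by_cases hs : ∀ u : V, u = 0
  · exact ⟨0, fun u => by rw [hs u, map_zero, smul_zero]⟩
  push Not at hs
  obtain ⟨x, hx⟩ := hs
  obtain ⟨c, hc⟩ := h x
  refine ⟨c, fun u => ?_⟩
  obtain ⟨d, hd⟩ := h u
  by_cases hu : u ∈ L ∙ x
  · obtain ⟨e, rfl⟩ := Submodule.mem_span_singleton.mp hu
    rw [map_smul, hc, smul_comm]
  obtain ⟨e, he⟩ := h (x + u)
  rw [map_add, hc, hd, smul_add] at he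
  have h' : (d - e) • u = (e - c) • x := by
    rw [sub_smul, sub_smul, sub_eq_sub_iff_add_eq_add, add_comm, he, add_comm]
  rcases eq_or_ne (d - e) 0 with h0 | h0
  · rw [h0, zero_smul] at h'
    have hec : e - c = 0 := (smul_eq_zero.mp h'.symm).resolve_right hx
    rw [hd, sub_eq_zero.mp h0, sub_eq_zero.mp hec]
  · refine absurd (Submodule.mem_span_singleton.mpr ⟨(d - e)⁻¹ * (e - c), ?_⟩) hu
    rw [mul_smul, ← h', smul_smul, inv_mul_cancel₀ h0, one_smul]

/-- Not all the coefficient maps vanish. -/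
theorem Over.exists_phi_ne (hO : Over L G f H) : ∃ g ∈ H, ∃ u : V, phi G g u ≠ 0 := by
  classical
  by_contra! hall
  have : FiniteDimensional L V := FiniteDimensional.right F L V
  have hL : Finite L := Module.finite_of_finite F
  have hE : ∀ g ∈ H, ∀ (u : V) (a : L), G ((g : V ≃ₗ[F] V) (a • u)) ((g : V ≃ₗ[F] V) u) = 0 := by
    intro g hg u a
    refine eq_of_trace (F := F) fun c => ?_
    rw [← Emap_apply, hO.trace_E, hall g hg u, LinearMap.zero_apply, mul_zero, mul_zero, map_zero, neg_zero]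
  let T : BilinIsom f → L → V → V := fun g a z =>
    (g : V ≃ₗ[F] V) (a • ((g⁻¹ : BilinIsom f) : V ≃ₗ[F] V) z)
  have hTadd : ∀ g a z z', T g a (z + z') = T g a z + T g a z' := fun g a z z' => by
    simp only [T, map_add, smul_add]
  have hT0 : ∀ g ∈ H, ∀ a z, G (T g a z) z = 0 := fun g hg a z => by
    have := hE g hg (((g⁻¹ : BilinIsom f) : V ≃ₗ[F] V) z) a
    rwa [BilinIsom.apply_inv_self] at this
  have hTsa : ∀ g ∈ H, ∀ a z z', G (T g a z) z' = G z (T g a z') := fun g hg a z z' => by
    have h := hT0 g hg a (z + z')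
    simp only [hTadd, map_add, LinearMap.add_apply, hT0 g hg a z, hT0 g hg a z', zero_add, add_zero] at h
    rw [hO.swap (T g a z') z] at *
    linear_combination h
  have hTlin : ∀ g ∈ H, ∀ a (c : L) z, T g a (c • z) = c • T g a z := fun g hg a c z => by
    refine sub_eq_zero.mp (hO.nondeg.1 _ fun z' => ?_)
    rw [map_sub, LinearMap.sub_apply, map_smul, LinearMap.smul_apply, hTsa g hg, hTsa g hg, map_smul,
      LinearMap.smul_apply, sub_self]
  have hcomm : ∀ g ∈ H, ∀ g' ∈ H, ∀ a a' z, T g a (T g' a' z) = T g' a' (T g a z) := by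
    intro g hg g' hg' a a' z
    have h := hTlin (g⁻¹ * g') (H.mul_mem (H.inv_mem hg) hg') a' a (((g⁻¹ : BilinIsom f) : V ≃ₗ[F] V) z)
    simp only [T, mul_inv_rev, inv_inv, BilinIsom.mul_apply', BilinIsom.apply_inv_self] at h
    have h2 := congrArg (fun w => (g : V ≃ₗ[F] V) w) h
    simp only [BilinIsom.apply_inv_self] at h2
    exact h2.symm
  obtain ⟨g, hg, hns⟩ := hO.exists_not_semi
  refine hns fun a => ?_
  let T0 : V →ₗ[L] V :=
    { toFun := T g a
      map_add' := hTadd g a
      map_smul' := hTlin g hg a }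
  have hkey : ∀ u z, G (T g a (T g a z)) u • u - (2 * G (T g a z) u) • T g a u + G z u • T g a (T g a u) = 0 := by
    intro u z
    have hS : ∀ z, T (hO.linT u 1 * g) a z = T g a (z - G z u • u) + G (T g a (z - G z u • u)) u • u := by
      intro z
      have hinv : (((hO.linT u 1)⁻¹ : BilinIsom f) : V ≃ₗ[F] V) z = z - G z u • u := by
        have e : (hO.linT u 1 : BilinIsom f).1 (z - G z u • u) = z := by
          rw [hO.linT_apply, map_sub, LinearMap.sub_apply, map_smul, LinearMap.smul_apply, hO.alt u, smul_zero,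
            sub_zero, one_mul, sub_add_cancel]
        conv_lhs => rw [← e]
        exact BilinIsom.inv_apply_self _ _
      simp only [T, mul_inv_rev, BilinIsom.mul_apply', hinv, hO.linT_apply, one_mul]
    have h := hcomm _ (H.mul_mem (hO.linT_mem u 1) hg) g hg a a z
    rw [hS, hS] at h
    have e1 : ∀ z, T g a (z - G z u • u) = T g a z - G z u • T g a u := fun z => by
      show T0 (z - G z u • u) = T0 z - G z u • T0 u
      rw [map_sub, map_smul]
    have e0 : G (T g a u) u = 0 := hT0 g hg a u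
    rw [e1, e1, map_sub, LinearMap.sub_apply, map_smul, LinearMap.smul_apply, e0, smul_zero, sub_zero,
      map_sub, LinearMap.sub_apply, map_smul, LinearMap.smul_apply, e0, smul_zero, sub_zero] at h
    have e2 : T g a (T g a z - G z u • T g a u + G (T g a z) u • u) =
        T g a (T g a z) - G z u • T g a (T g a u) + G (T g a z) u • T g a u := by
      show T0 (T0 z - G z u • T0 u + G (T0 z) u • u) = _
      rw [map_add, map_sub, map_smul, map_smul]
      rfl
    rw [e2] at h
    rw [← sub_eq_zero] at h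
    linear_combination (norm := module) h
  have hscal : ∃ b : L, ∀ z, T g a z = b • z := by
    by_cases h2 : (2 : L) = 0
    · -- characteristic two
      have hTT : ∀ u, ∃ c : L, T g a (T g a u) = c • u := by
        intro u
        rcases eq_or_ne u 0 with rfl | hu
        · exact ⟨0, by rw [smul_zero, show T g a 0 = 0 from map_zero T0, show T g a 0 = 0 from map_zero T0]⟩
        obtain ⟨z, hz⟩ := exists_hyperbolic_partner hO.nondeg hu
        have h := hkey u (-z)
        have hzu : G (-z) u = 1 := by rw [map_neg, LinearMap.neg_apply, hO.swap, hz, neg_neg]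
        rw [h2, zero_mul, zero_smul, sub_zero, hzu, one_smul, add_eq_zero_iff_eq_neg'] at h
        exact ⟨-(G (T g a (T g a (-z))) u), by rw [h, neg_smul]⟩
      obtain ⟨s, hs⟩ := scalar_of_eigen (T0 ∘ₗ T0) hTT
      have hchar : ringChar L = 2 := CharP.ringChar_of_prime_eq_zero Nat.prime_two (by exact_mod_cast h2)
      have hFt := Fintype.ofFinite L
      obtain ⟨k, hk⟩ : ∃ k, Fintype.card L = 2 * k := by
        have := ringChar.of_eq hchar
        obtain ⟨e, -, he⟩ := FiniteField.card L 2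
        exact ⟨2 ^ ((e : ℕ) - 1), by rw [he, ← pow_succ', Nat.sub_add_cancel e.pos]⟩
      have hpow : ∀ (j : ℕ) z, T g (a ^ (2 * j)) z = s ^ j • z := by
        intro j
        induction j with
        | zero =>
          intro z
          simp [T, BilinIsom.apply_inv_self]
        | succ j ih =>
          intro z
          have e : T g (a ^ (2 * (j + 1))) z = T g (a ^ (2 * j)) (T g a (T g a z)) := by
            simp only [T, BilinIsom.inv_apply_self, smul_smul, ← pow_succ, mul_add, mul_one, mul_comm a]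
            congr 2
            ring
          rw [e, ih, show T g a (T g a z) = s • z from hs z, smul_smul, pow_succ]
      refine ⟨s ^ k, fun z => ?_⟩
      have := hpow k z
      rwa [← hk, FiniteField.pow_card] at this
    · -- odd characteristic
      refine scalar_of_eigen T0 fun u => ?_
      by_contra! hu
      have hu0 : u ≠ 0 := fun h => hu 0 (by rw [h, map_zero, smul_zero])
      have hn : T g a u ∉ L ∙ u := fun h => by
        obtain ⟨c, hc⟩ := Submodule.mem_span_singleton.mp h
        exact hu c hc.symm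
      obtain ⟨d, hd, hdu⟩ := exists_nonorth_of_notMem hO.alt hO.nondeg (L ∙ u) hn
      have hd0 : G u d = 0 := hd u (Submodule.mem_span_singleton_self u)
      have h := hkey u d
      have hdu' : G (T g a d) u ≠ 0 := by
        rw [hTsa g hg, hO.swap]
        exact neg_ne_zero.mpr hdu
      rw [hO.swap u d, hd0, neg_zero, zero_smul, add_zero, sub_eq_zero] at h
      refine hn (Submodule.mem_span_singleton.mpr ⟨(2 * G (T g a d) u)⁻¹ * G (T g a (T g a d)) u, ?_⟩)
      rw [mul_smul, h, smul_smul, inv_mul_cancel₀ (mul_ne_zero h2 hdu'), one_smul]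
  obtain ⟨b, hb⟩ := hscal
  refine ⟨b, fun z => ?_⟩
  have := hb ((g : V ≃ₗ[F] V) z)
  simpa only [T, BilinIsom.inv_apply_self] using this

/-- A coefficient map of rank one. -/
theorem Over.exists_rank_one (hO : Over L G f H) :
    ∃ g ∈ H, ∃ (u : V) (ξ : L) (τ : L →ₗ[F] F), ξ ≠ 0 ∧ τ ≠ 0 ∧ ∀ c, phi G g u c = τ c • ξ := by
  classical
  let P : ℕ → Prop := fun d => ∃ g ∈ H, ∃ u : V, phi G g u ≠ 0 ∧ finrank F (LinearMap.range (phi G g u)) = d
  obtain ⟨g₀, hg₀, u₀, h₀⟩ := hO.exists_phi_ne
  have hex : ∃ d, P d := ⟨_, g₀, hg₀, u₀, h₀, rfl⟩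
  obtain ⟨g, hg, u, hne, hd⟩ := Nat.find_spec hex
  refine ⟨g, hg, u, ?_⟩
  set φ := phi G g u with hφ
  set Φ := LinearMap.range φ with hΦ
  set E := Emap G g u with hEdef
  set x := (g : V ≃ₗ[F] V) u with hx
  -- new coefficient maps
  have hnew : ∀ b : L, ∃ g' ∈ H, ∀ c, phi G g' x c = -E (b * φ c) := by
    intro b
    refine ⟨g * hO.linT u b * g⁻¹, H.mul_mem (H.mul_mem hg (hO.linT_mem u b)) (H.inv_mem hg), fun c => ?_⟩
    have hux : (g * hO.linT u b * g⁻¹ : BilinIsom f).1 x = x := by
      rw [BilinIsom.mul_apply', BilinIsom.mul_apply', BilinIsom.inv_apply_self, hO.linT_apply, hO.alt u, mul_zero,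
        zero_smul, add_zero]
    have hinv : ∀ z, (((hO.linT u b)⁻¹ : BilinIsom f) : V ≃ₗ[F] V) z = z - (b * G z u) • u := by
      intro z
      have e : (hO.linT u b : BilinIsom f).1 (z - (b * G z u) • u) = z := by
        rw [hO.linT_apply, map_sub, LinearMap.sub_apply, map_smul, LinearMap.smul_apply, hO.alt u, smul_zero,
          sub_zero, sub_add_cancel]
      conv_lhs => rw [← e]
      exact BilinIsom.inv_apply_self _ _
    rw [phi_apply, hux, mul_inv_rev, mul_inv_rev, inv_inv, BilinIsom.mul_apply', BilinIsom.mul_apply', hinv,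
      map_sub, BilinIsom.apply_inv_self, map_sub, LinearMap.sub_apply, map_smul, LinearMap.smul_apply, hO.alt x,
      smul_zero, zero_sub]
    rfl
  have hmin : ∀ b v, v ∈ Φ → v ≠ 0 → E (b * v) = 0 → ∀ v' ∈ Φ, E (b * v') = 0 := by
    intro b v hv hv0 hEv
    by_contra! hb
    obtain ⟨v', hv', hEv'⟩ := hb
    obtain ⟨g', hg', hg'φ⟩ := hnew b
    let Ψ : L →ₗ[F] L := -(E ∘ₗ LinearMap.mulLeft F b)
    have hrange : LinearMap.range (phi G g' x) = Φ.map Ψ := by
      rw [hΦ, ← LinearMap.range_comp]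
      exact congrArg LinearMap.range (LinearMap.ext fun c => hg'φ c)
    have hne' : phi G g' x ≠ 0 := fun h => by
      obtain ⟨c, rfl⟩ := hv'
      have := hg'φ c
      rw [h, LinearMap.zero_apply, eq_comm, neg_eq_zero] at this
      exact hEv' this
    have hlt : finrank F (Φ.map Ψ) < finrank F Φ := by
      have h := (Ψ.domRestrict Φ).finrank_range_add_finrank_ker
      rw [LinearMap.range_domRestrict] at h
      have hk : 1 ≤ finrank F (LinearMap.ker (Ψ.domRestrict Φ)) := Submodule.one_le_finrank_iff.mpr fun h0 => by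
        have hm : (⟨v, hv⟩ : Φ) ∈ LinearMap.ker (Ψ.domRestrict Φ) := by
          show -E (b * v) = 0
          rw [hEv, neg_zero]
        rw [h0, Submodule.mem_bot] at hm
        exact hv0 (congrArg Subtype.val hm)
      omega
    exact absurd (Nat.find_le (h := hex) ⟨g', hg', x, hne', by rw [hrange]⟩) (by omega)
  obtain ⟨c₀, hc₀⟩ : ∃ c, φ c ≠ 0 := by
    by_contra! h
    exact hne (LinearMap.ext h)
  set φ₀ := φ c₀
  have hsub : ∀ v ∈ Φ, ∀ w ∈ Φ, φ₀⁻¹ * (v * w) ∈ Φ := by
    intro v hv w hw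
    by_contra hnot
    obtain ⟨θ, hθ1, hθ0⟩ := Submodule.exists_dual_map_eq_bot_of_notMem hnot inferInstance
    obtain ⟨ζ, hζ⟩ := exists_trace_dual θ
    have hperp : ∀ p ∈ Φ, Algebra.trace F L (ζ * p) = 0 := fun p hp => by
      rw [← hζ]
      exact (Submodule.mem_bot F).mp (hθ0 ▸ Submodule.mem_map_of_mem hp)
    have hE0 : E (ζ / φ₀ * φ₀) = 0 := eq_of_trace (F := F) fun c => by
      rw [hO.trace_E, div_mul_cancel₀ _ hc₀, hperp _ ⟨c, rfl⟩, mul_zero, map_zero, neg_zero]
    have hEv := hmin (ζ / φ₀) φ₀ ⟨c₀, rfl⟩ hc₀ hE0 v hv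
    obtain ⟨c, rfl⟩ := hw
    have := hO.trace_E g u (ζ / φ₀ * v) c
    rw [← hEdef, hEv, mul_zero, map_zero, eq_comm, neg_eq_zero, ← hφ] at this
    refine hθ1 ?_
    rw [hζ, ← this]
    congr 1
    ring
  let S : Subalgebra F L :=
    { carrier := {t | φ₀ * t ∈ Φ}
      mul_mem' := fun {s t} hs ht => by
        show φ₀ * (s * t) ∈ Φ
        convert hsub _ hs _ ht using 1
        field_simp
      one_mem' := ⟨c₀, (mul_one φ₀).symm⟩
      add_mem' := fun {s t} hs ht => by
        show φ₀ * (s + t) ∈ Φ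
        rw [mul_add]
        exact Φ.add_mem hs ht
      zero_mem' := by
        show φ₀ * 0 ∈ Φ
        rw [mul_zero]
        exact Φ.zero_mem
      algebraMap_mem' := fun l => by
        show φ₀ * algebraMap F L l ∈ Φ
        rw [mul_comm, ← Algebra.smul_def]
        exact Φ.smul_mem l ⟨c₀, rfl⟩ }
  have := Subalgebra.isSimpleOrder_of_finrank_prime F L hO.prime
  rcases IsSimpleOrder.eq_bot_or_eq_top S with hS | hS
  · have hmem : ∀ c, φ c ∈ LinearMap.range (LinearMap.toSpanSingleton F L φ₀) := fun c => by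
      have h : φ c / φ₀ ∈ S := by
        show φ₀ * (φ c / φ₀) ∈ Φ
        rw [mul_div_cancel₀ _ hc₀]
        exact ⟨c, rfl⟩
      rw [hS] at h
      obtain ⟨l, hl⟩ := Algebra.mem_bot.mp h
      exact ⟨l, by rw [LinearMap.toSpanSingleton_apply, Algebra.smul_def, hl, div_mul_cancel₀ _ hc₀]⟩
    obtain ⟨π, hπ⟩ : ∃ π : L →ₗ[F] F, ∀ l : F, π (l • φ₀) = l := by
      obtain ⟨θ, hθ, -⟩ := Submodule.exists_dual_map_eq_bot_of_notMem (p := (⊥ : Submodule F L)) (x := φ₀)
        (by simpa using hc₀) inferInstance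
      exact ⟨(θ φ₀)⁻¹ • θ, fun l => by rw [LinearMap.smul_apply, map_smul, smul_eq_mul, smul_eq_mul,
        mul_left_comm, inv_mul_cancel₀ hθ, mul_one]⟩
    have hval : ∀ c, φ c = π (φ c) • φ₀ := fun c => by
      obtain ⟨l, hl⟩ := hmem c
      rw [LinearMap.toSpanSingleton_apply] at hl
      rw [← hl, hπ]
    refine ⟨φ₀, π ∘ₗ φ, hc₀, fun h => hc₀ ?_, hval⟩
    show φ c₀ = 0
    rw [hval, show π (φ c₀) = 0 from LinearMap.congr_fun h c₀, zero_smul]
  · have htop : Φ = ⊤ := Submodule.eq_top_iff'.mpr fun t => by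
      have h : φ₀⁻¹ * t ∈ S := hS ▸ Algebra.mem_top
      have h' : φ₀ * (φ₀⁻¹ * t) ∈ Φ := h
      rwa [mul_inv_cancel_left₀ hc₀] at h'
    have hinj : Function.Injective φ := LinearMap.injective_iff_surjective.mpr (LinearMap.range_eq_top.mp htop)
    exact absurd (hinj ((hO.phi_one g u).trans (map_zero φ).symm)) one_ne_zero

end Cfsg.Lib.Classical.ExtFieldSp
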