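import Mathlib
import Cfsg.Agent.Classical.Symp.Basic

/-! Symplectic groups over an extension field inside those over the base field. -/

set_option autoImplicit false
set_option linter.unusedSectionVars false

namespace Cfsg.Lib.Classical.ExtFieldSp

open Module

variable {F L V : Type*} [Field F] [Finite F] [Field L] [Algebra F L] [FiniteDimensional F L]
  [AddCommGroup V] [Module F V] [Module L V] [IsScalarTower F L V] [FiniteDimensional F V]

variable (L) in
/-- `g` is semilinear over `L`. -/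
def Semi (g : V ≃ₗ[F] V) : Prop := ∀ a : L, ∃ b : L, ∀ z : V, g (a • z) = b • g z

theorem eq_of_trace {x y : L} (h : ∀ c : L, Algebra.trace F L (c * x) = Algebra.trace F L (c * y)) : x = y := by
  have hn := (traceForm_nondegenerate F L).2 (x - y) fun c => by
    rw [Algebra.traceForm_apply, mul_sub, map_sub, h, sub_self]
  exact sub_eq_zero.mp hn

/-- Every functional is a trace. -/
theorem exists_trace_dual (θ : L →ₗ[F] F) : ∃ ζ : L, ∀ c, θ c = Algebra.trace F L (ζ * c) := by
  obtain ⟨ζ, hζ⟩ := ((Algebra.traceForm F L).toDual (traceForm_nondegenerate F L)).surjective θ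
  exact ⟨ζ, fun c => by rw [← hζ]; rfl⟩

variable (L) in
/-- The form over `L` with trace `f`, and the hypotheses on a subgroup of the isometries of `f`. -/
structure Over (G : LinearMap.BilinForm L V) (f : LinearMap.BilinForm F V) (H : Subgroup (BilinIsom f)) : Prop where
  prime : (finrank F L).Prime
  alt : G.IsAlt
  nondeg : G.Nondegenerate
  falt : f.IsAlt
  fnondeg : f.Nondegenerate
  trace : ∀ u v, f u v = Algebra.trace F L (G u v)
  semi_mem : ∀ g : BilinIsom f, Semi L (g : V ≃ₗ[F] V) → g ∈ H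
  exists_not_semi : ∃ g ∈ H, ¬ Semi L (g : V ≃ₗ[F] V)
  six_le : 6 ≤ finrank F V

variable {G : LinearMap.BilinForm L V} {f : LinearMap.BilinForm F V} {H : Subgroup (BilinIsom f)}

/-- An isometry over `L` as an isometry over `F`. -/
def lift (h : ∀ u v, f u v = Algebra.trace F L (G u v)) (g : BilinIsom G) : BilinIsom f :=
  ⟨(g : V ≃ₗ[L] V).restrictScalars F, fun x y => by
    show f ((g : V ≃ₗ[L] V) x) ((g : V ≃ₗ[L] V) y) = f x y
    rw [h, h, BilinIsom.map_form]⟩

theorem lift_apply (h : ∀ u v, f u v = Algebra.trace F L (G u v)) (g : BilinIsom G) (z : V) :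
    ((lift h g : BilinIsom f) : V ≃ₗ[F] V) z = (g : V ≃ₗ[L] V) z := rfl

theorem Over.lift_mem (hO : Over L G f H) (g : BilinIsom G) : lift hO.trace g ∈ H :=
  hO.semi_mem _ fun a => ⟨a, fun z => by rw [lift_apply, lift_apply, map_smul]⟩

/-- The transvection over `L`. -/
noncomputable def Over.linT (hO : Over L G f H) (x : V) (a : L) : BilinIsom f := lift hO.trace (sympT hO.alt x a)

theorem Over.linT_mem (hO : Over L G f H) (x : V) (a : L) : hO.linT x a ∈ H := hO.lift_mem _

theorem Over.linT_apply (hO : Over L G f H) (x : V) (a : L) (z : V) :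
    ((hO.linT x a : BilinIsom f) : V ≃ₗ[F] V) z = z + (a * G z x) • x := by
  rw [Over.linT, lift_apply, sympT_apply]

theorem Over.swap (hO : Over L G f H) (u v : V) : G v u = -G u v := (hO.alt.neg_eq u v).symm

variable (G) in
/-- `φ c = G(g⁻¹(c g u), u)`. -/
noncomputable def phi (g : BilinIsom f) (u : V) : L →ₗ[F] L :=
  (G.flip u).restrictScalars F ∘ₗ ((g⁻¹ : BilinIsom f) : V ≃ₗ[F] V).toLinearMap ∘ₗ
    (LinearMap.toSpanSingleton L V ((g : V ≃ₗ[F] V) u)).restrictScalars F

theorem phi_apply (g : BilinIsom f) (u : V) (c : L) :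
    phi G g u c = G (((g⁻¹ : BilinIsom f) : V ≃ₗ[F] V) (c • (g : V ≃ₗ[F] V) u)) u := rfl

variable (G) in
/-- `E a = G(g (a u), g u)`. -/
noncomputable def Emap (g : BilinIsom f) (u : V) : L →ₗ[F] L :=
  (G.flip ((g : V ≃ₗ[F] V) u)).restrictScalars F ∘ₗ (g : V ≃ₗ[F] V).toLinearMap ∘ₗ
    (LinearMap.toSpanSingleton L V u).restrictScalars F

theorem Emap_apply (g : BilinIsom f) (u : V) (a : L) :
    Emap G g u a = G ((g : V ≃ₗ[F] V) (a • u)) ((g : V ≃ₗ[F] V) u) := rfl

/-- The two maps are adjoint. -/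
theorem Over.trace_E (hO : Over L G f H) (g : BilinIsom f) (u : V) (a c : L) :
    Algebra.trace F L (c * Emap G g u a) = -Algebra.trace F L (a * phi G g u c) := by
  have h1 : Algebra.trace F L (c * Emap G g u a) =
      f ((g : V ≃ₗ[F] V) (a • u)) (c • (g : V ≃ₗ[F] V) u) := by
    rw [hO.trace, LinearMap.map_smul, smul_eq_mul, Emap_apply]
  have h2 : f ((g : V ≃ₗ[F] V) (a • u)) (c • (g : V ≃ₗ[F] V) u) =
      f (a • u) (((g⁻¹ : BilinIsom f) : V ≃ₗ[F] V) (c • (g : V ≃ₗ[F] V) u)) := by
    rw [← BilinIsom.map_form g (a • u), BilinIsom.apply_inv_self]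
  rw [h1, h2, hO.trace, LinearMap.map_smul, LinearMap.smul_apply, smul_eq_mul, phi_apply, hO.swap, mul_neg, map_neg]

theorem Over.phi_one (hO : Over L G f H) (g : BilinIsom f) (u : V) : phi G g u 1 = 0 := by
  rw [phi_apply, one_smul, BilinIsom.inv_apply_self, hO.alt u]

end Cfsg.Lib.Classical.ExtFieldSp
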