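import Cfsg.Agent.Classical.ExtFieldSp.Minimal

/-! An overgroup contains a transvection over the base field, apart from degree two over two elements. -/

set_option autoImplicit false
set_option linter.unusedSectionVars false

namespace Cfsg.Lib.Classical.ExtFieldSp

open Module

variable {F L V : Type*} [Field F] [Finite F] [Field L] [Algebra F L] [FiniteDimensional F L]
  [AddCommGroup V] [Module F V] [Module L V] [IsScalarTower F L V] [FiniteDimensional F V]
  {G : LinearMap.BilinForm L V} {f : LinearMap.BilinForm F V} {H : Subgroup (BilinIsom f)}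

/-- The data: `x = g u` and a coefficient map `ξ τ`. -/
structure Rank1 (hO : Over L G f H) (g : BilinIsom f) (u : V) (ξ ζ : L) : Prop where
  mem : g ∈ H
  xi_ne : ξ ≠ 0
  zeta_ne : ζ ≠ 0
  phi_eq : ∀ c, phi G g u c = Algebra.trace F L (ζ * c) • ξ

theorem Over.exists_rank1 (hO : Over L G f H) : ∃ g u ξ ζ, Rank1 hO g u ξ ζ := by
  obtain ⟨g, hg, u, ξ, τ, hξ, hτ, h⟩ := hO.exists_rank_one
  obtain ⟨ζ, hζ⟩ := exists_trace_dual τ
  refine ⟨g, u, ξ, ζ, hg, hξ, fun h0 => hτ (LinearMap.ext fun c => ?_), fun c => by rw [← hζ, h]⟩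
  rw [hζ, h0, zero_mul, map_zero, LinearMap.zero_apply]

variable {hO : Over L G f H} {g : BilinIsom f} {u : V} {ξ ζ : L}

theorem Rank1.trace_zeta (R : Rank1 hO g u ξ ζ) : Algebra.trace F L ζ = 0 := by
  have h := R.phi_eq 1
  rw [hO.phi_one, mul_one] at h
  exact (smul_eq_zero.mp h.symm).resolve_right R.xi_ne

theorem Rank1.E_eq (R : Rank1 hO g u ξ ζ) (a : L) : Emap G g u a = -(Algebra.trace F L (ξ * a) • ζ) := by
  refine eq_of_trace (F := F) fun c => ?_
  rw [hO.trace_E, R.phi_eq, mul_neg, map_neg, Algebra.mul_smul_comm, Algebra.mul_smul_comm, map_smul, map_smul,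
    smul_eq_mul, smul_eq_mul, mul_comm ζ c, mul_comm a ξ, mul_comm]

/-- The products of transvections along `x = g u` obtained by conjugation. -/
theorem Rank1.twist (R : Rank1 hO g u ξ ζ) {l : F} (hl : l ≠ 0) (w : L) :
    ∃ h ∈ H, ∀ z, (h : BilinIsom f).1 z = z +
      (f z ((g : V ≃ₗ[F] V) u) • w + algebraMap F L (Algebra.trace F L (w * G z ((g : V ≃ₗ[F] V) u))) +
        algebraMap F L (l * Algebra.trace F L (ζ * w) * f z ((g : V ≃ₗ[F] V) u))) • (g : V ≃ₗ[F] V) u := by
  set x := (g : V ≃ₗ[F] V) u with hx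
  have hlL : algebraMap F L l ≠ 0 := (map_ne_zero _).mpr hl
  set b := algebraMap F L l * ξ⁻¹ with hb
  set a := w / (algebraMap F L l * ζ) with ha
  set k := g * hO.linT u b * g⁻¹ with hkdef
  have hk : k ∈ H := H.mul_mem (H.mul_mem R.mem (hO.linT_mem u b)) (H.inv_mem R.mem)
  refine ⟨k * hO.linT x a * k⁻¹ * hO.linT x (-a),
    H.mul_mem (H.mul_mem (H.mul_mem hk (hO.linT_mem x a)) (H.inv_mem hk)) (hO.linT_mem x _), fun z => ?_⟩
  set z' := (hO.linT x (-a) : BilinIsom f).1 z with hz'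
  have hz'e : z' = z + (-a * G z x) • x := hO.linT_apply x (-a) z
  have hfz : f z' x = f z x := by
    rw [hO.trace, hO.trace, hz'e, map_add, LinearMap.add_apply, map_smul, LinearMap.smul_apply, hO.alt x,
      smul_zero, add_zero]
  have hGz : G z' x = G z x := by
    rw [hz'e, map_add, LinearMap.add_apply, map_smul, LinearMap.smul_apply, hO.alt x, smul_zero, add_zero]
  have hkapp : ∀ v, k.1 v = v + (g : V ≃ₗ[F] V) ((b * G (((g⁻¹ : BilinIsom f) : V ≃ₗ[F] V) v) u) • u) := by
    intro v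
    rw [hkdef, BilinIsom.mul_apply', BilinIsom.mul_apply', hO.linT_apply, map_add, BilinIsom.apply_inv_self]
  have hkx : ∀ c : L, k.1 (c • x) = c • x + Algebra.trace F L (ζ * c) • algebraMap F L l • x := fun c => by
    rw [hkapp, ← phi_apply, R.phi_eq, hb, mul_assoc, Algebra.mul_smul_comm, inv_mul_cancel₀ R.xi_ne, mul_smul_comm,
      mul_one, smul_assoc, algebraMap_smul, map_smul, map_smul, algebraMap_smul]
  have hGk : G (((k⁻¹ : BilinIsom f) : V ≃ₗ[F] V) z') x = G z x + (l * f z x) • ζ := by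
    have hinv : ((k⁻¹ : BilinIsom f) : V ≃ₗ[F] V) z' =
        z' - (g : V ≃ₗ[F] V) ((b * G (((g⁻¹ : BilinIsom f) : V ≃ₗ[F] V) z') u) • u) := by
      set p := b * G (((g⁻¹ : BilinIsom f) : V ≃ₗ[F] V) z') u with hp
      have hd' : ((g⁻¹ : BilinIsom f) : V ≃ₗ[F] V) (z' - (g : V ≃ₗ[F] V) (p • u)) =
          ((g⁻¹ : BilinIsom f) : V ≃ₗ[F] V) z' - p • u := by
        rw [map_sub, BilinIsom.inv_apply_self]
      have hGG : G (((g⁻¹ : BilinIsom f) : V ≃ₗ[F] V) z' - p • u) u = G (((g⁻¹ : BilinIsom f) : V ≃ₗ[F] V) z') u := by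
        simp [hO.alt u]
      have e : k.1 (z' - (g : V ≃ₗ[F] V) (p • u)) = z' := by
        rw [hkapp, hd', hGG, ← hp, sub_add_cancel]
      conv_lhs => rw [← e]
      exact BilinIsom.inv_apply_self _ _
    rw [hinv, map_sub, LinearMap.sub_apply, hGz, ← Emap_apply, R.E_eq, sub_neg_eq_add]
    congr 2
    rw [hb, ← mul_assoc, mul_comm ξ, mul_assoc (algebraMap F L l), inv_mul_cancel₀ R.xi_ne, mul_one,
      ← Algebra.smul_def, map_smul, smul_eq_mul, ← hO.trace, ← hfz, hx,
      ← BilinIsom.map_form g _ u, BilinIsom.apply_inv_self]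
  show (k * hO.linT x a * k⁻¹ * hO.linT x (-a) : BilinIsom f).1 z = _
  rw [BilinIsom.mul_apply', ← hz', BilinIsom.mul_apply', BilinIsom.mul_apply', hO.linT_apply, map_add,
    BilinIsom.apply_inv_self, hkx, hGk, hz'e]
  have h1 : a * (l * f z x) • ζ = f z x • w := by
    rw [ha, Algebra.smul_def, map_mul, Algebra.smul_def]
    field_simp [hlL, R.zeta_ne]
  have h2 : l * Algebra.trace F L (ζ * (a * (G z x + (l * f z x) • ζ))) =
      Algebra.trace F L (w * G z x) + l * Algebra.trace F L (ζ * w) * f z x := by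
    rw [← smul_eq_mul, ← map_smul, Algebra.smul_def,
      show algebraMap F L l * (ζ * (a * (G z x + (l * f z x) • ζ))) = w * G z x + (l * f z x) • (ζ * w) by
        rw [ha, Algebra.smul_def, Algebra.smul_def]
        field_simp [hlL, R.zeta_ne],
      map_add, map_smul, smul_eq_mul]
    ring
  have h3 : Algebra.trace F L (ζ * (a * (G z x + (l * f z x) • ζ))) • algebraMap F L l • x =
      algebraMap F L (l * Algebra.trace F L (ζ * (a * (G z x + (l * f z x) • ζ)))) • x := by
    rw [algebraMap_smul, algebraMap_smul, smul_smul, mul_comm]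
  have h4 : (a * (G z x + (l * f z x) • ζ)) • x = (a * G z x) • x + (f z x • w) • x := by
    rw [mul_add, h1, add_smul]
  rw [h3, h2, h4, map_add, add_smul, add_smul, add_smul, neg_mul, neg_smul]
  abel

end Cfsg.Lib.Classical.ExtFieldSp
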